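import Groth.Agent.DQCoh.RHomQCoh
import Groth.Agent.DCat.RHomSeq
import Groth.Agent.DCat.ClosedShriek

/-!
# The long exact sequence of sheaf `Ext` in the first variable
-/

set_option autoImplicit false
set_option backward.isDefEq.respectTransparency false
set_option backward.defeqAttrib.useBackward true
set_option linter.style.haveILetI false

universe u

open CategoryTheory CategoryTheory.Limits CategoryTheory.Pretriangulated AlgebraicGeometry HomologicalComplex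
open Groth.Agent.ModStalk Groth.Agent.DCat Groth.Agent.Coherent

attribute [local instance] HasDerivedCategory.standard
attribute [-instance] Int.instConditionallyCompleteLinearOrder

namespace Groth.Agent.AVExt16

variable {X : Scheme.{u}}

local notation "sg" => HomologicalComplex.single X.Modules (ComplexShape.up ℤ) 0

/-- The long exact sequence of `RHom(-, M)` along a short exact sequence of modules. -/
theorem exists_rhom_seq (T : ShortComplex X.Modules) (hT : T.ShortExact)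
    [DCoh.HasLTensorCx ((sg).obj T.X₁)] [DCoh.HasRSheafHom ((sg).obj T.X₁)]
    [DCoh.HasLTensorCx ((sg).obj T.X₂)] [DCoh.HasRSheafHom ((sg).obj T.X₂)]
    [DCoh.HasLTensorCx ((sg).obj T.X₃)] [DCoh.HasRSheafHom ((sg).obj T.X₃)] (M : DCoh.D X) :
    ∃ (f : (DCoh.RSheafHom ((sg).obj T.X₂)).obj M ⟶ (DCoh.RSheafHom ((sg).obj T.X₁)).obj M)
      (g : (DCoh.RSheafHom ((sg).obj T.X₃)).obj M ⟶ (DCoh.RSheafHom ((sg).obj T.X₂)).obj M)
      (δ : (DCoh.RSheafHom ((sg).obj T.X₁)).obj M ⟶ (DCoh.RSheafHom ((sg).obj T.X₃)).obj (M⟦(1 : ℤ)⟧))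
      (g' : (DCoh.RSheafHom ((sg).obj T.X₃)).obj (M⟦(1 : ℤ)⟧) ⟶
        (DCoh.RSheafHom ((sg).obj T.X₂)).obj (M⟦(1 : ℤ)⟧))
      (w₁ : g ≫ f = 0) (w₂ : f ≫ δ = 0) (w₃ : δ ≫ g' = 0),
      ∀ i : ℤ, (((ShortComplex.mk g f w₁).map (DerivedCategory.homologyFunctor X.Modules i)).Exact ∧
        ((ShortComplex.mk f δ w₂).map (DerivedCategory.homologyFunctor X.Modules i)).Exact ∧
        ((ShortComplex.mk δ g' w₃).map (DerivedCategory.homologyFunctor X.Modules i)).Exact) := by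
  obtain ⟨S, hS, ⟨k₁, k₂, k₃⟩, ⟨e₁⟩, ⟨e₂⟩, ⟨e₃⟩⟩ := DQCoh.exists_kflat_split hT.singleTriangle_distinguished
  haveI := LTensorSheaf.hasLTensorCx S.X₁
  haveI := LTensorSheaf.hasLTensorCx S.X₂
  haveI := LTensorSheaf.hasLTensorCx S.X₃
  haveI := RHomExist.hasRSheafHom S.X₁
  haveI := RHomExist.hasRSheafHom S.X₂
  haveI := RHomExist.hasRSheafHom S.X₃
  obtain ⟨a, b, d, hd⟩ := RHomSeq.exists_nat_triangle (shT X) (DCoh.tensorCx (X := X)) rfl S hS
    (TensorCongr.fac k₁) (TensorCongr.fac k₂) (TensorCongr.fac k₃)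
  obtain ⟨c₁⟩ := TensorCongr.nonempty_congr_rhom (E := S.X₁) (E' := (sg).obj T.X₁)
    (e₁ ≪≫ (DerivedCategory.singleFunctorIsoCompQ X.Modules 0).app T.X₁)
  obtain ⟨c₂⟩ := TensorCongr.nonempty_congr_rhom (E := S.X₂) (E' := (sg).obj T.X₂)
    (e₂ ≪≫ (DerivedCategory.singleFunctorIsoCompQ X.Modules 0).app T.X₂)
  obtain ⟨c₃⟩ := TensorCongr.nonempty_congr_rhom (E := S.X₃) (E' := (sg).obj T.X₃)
    (e₃ ≪≫ (DerivedCategory.singleFunctorIsoCompQ X.Modules 0).app T.X₃)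
  let A₁ := DCoh.RSheafHomAdj S.X₁
  let A₂ := DCoh.RSheafHomAdj S.X₂
  let A₃ := DCoh.RSheafHomAdj S.X₃
  let f₀ := (conjugateEquiv A₂ A₁ a).app M
  let g₀ := (conjugateEquiv A₃ A₂ b).app M
  let δ₀ := RHomSeq.Rd A₁ A₃ d M
  let g₀' := (conjugateEquiv A₃ A₂ b).app (M⟦(1 : ℤ)⟧)
  have z₁ : g₀ ≫ f₀ = 0 := RHomSeq.Rg_Rf A₁ A₂ A₃ a b d hd M
  have z₂ : f₀ ≫ δ₀ = 0 := RHomSeq.Rf_Rd A₁ A₂ A₃ a b d hd M
  have z₃ : δ₀ ≫ g₀' = 0 := RHomSeq.Rd_Rg A₁ A₂ A₃ a b d hd M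
  refine ⟨(c₂.app M).inv ≫ f₀ ≫ (c₁.app M).hom, (c₃.app M).inv ≫ g₀ ≫ (c₂.app M).hom,
    (c₁.app M).inv ≫ δ₀ ≫ (c₃.app _).hom, (c₃.app _).inv ≫ g₀' ≫ (c₂.app _).hom, ?_, ?_, ?_, fun i => ⟨?_, ?_, ?_⟩⟩
  · simp [reassoc_of% z₁]
  · simp [reassoc_of% z₂]
  · simp [reassoc_of% z₃]
  · refine (ShortComplex.exact_iff_of_iso ?_).1 (RHomSeq.exact_of_hom_exact (DerivedCategory.homologyFunctor X.Modules i)
      g₀ f₀ z₁ fun _ x hx => RHomSeq.exact₂ A₁ A₂ A₃ a b d hd M x hx)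
    exact ShortComplex.isoMk ((DerivedCategory.homologyFunctor _ i).mapIso (c₃.app M))
      ((DerivedCategory.homologyFunctor _ i).mapIso (c₂.app M)) ((DerivedCategory.homologyFunctor _ i).mapIso (c₁.app M))
      (by simp [← Functor.map_comp]) (by simp [← Functor.map_comp])
  · refine (ShortComplex.exact_iff_of_iso ?_).1 (RHomSeq.exact_of_hom_exact (DerivedCategory.homologyFunctor X.Modules i)
      f₀ δ₀ z₂ fun _ x hx => RHomSeq.exact₁ A₁ A₂ A₃ a b d hd M x hx)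
    exact ShortComplex.isoMk ((DerivedCategory.homologyFunctor _ i).mapIso (c₂.app M))
      ((DerivedCategory.homologyFunctor _ i).mapIso (c₁.app M)) ((DerivedCategory.homologyFunctor _ i).mapIso (c₃.app _))
      (by simp [← Functor.map_comp]) (by simp [← Functor.map_comp])
  · refine (ShortComplex.exact_iff_of_iso ?_).1 (RHomSeq.exact_of_hom_exact (DerivedCategory.homologyFunctor X.Modules i)
      δ₀ g₀' z₃ fun _ x hx => RHomSeq.exact₃ A₁ A₂ A₃ a b d hd M x hx)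
    exact ShortComplex.isoMk ((DerivedCategory.homologyFunctor _ i).mapIso (c₁.app M))
      ((DerivedCategory.homologyFunctor _ i).mapIso (c₃.app _)) ((DerivedCategory.homologyFunctor _ i).mapIso (c₂.app _))
      (by simp [← Functor.map_comp]) (by simp [← Functor.map_comp])

/-- `RHom(i_* O, -)` commutes with the shift, objectwise. -/
theorem nonempty_rhom_pushOne_shift {Z : Scheme.{u}} (e : Z ⟶ X) [IsClosedImmersion e] [Dual3.HasHomO e]
    [PreservesFiniteLimits (Scheme.Modules.pushforward e)] [PreservesFiniteColimits (Scheme.Modules.pushforward e)]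
    [DCoh.HasLTensorCx (ClosedShriek.pushOne e)] [DCoh.HasRSheafHom (ClosedShriek.pushOne e)] (M : DCoh.D X) (n : ℤ) :
    Nonempty ((DCoh.RSheafHom (ClosedShriek.pushOne e)).obj (M⟦n⟧) ≅
      ((DCoh.RSheafHom (ClosedShriek.pushOne e)).obj M)⟦n⟧) := by
  obtain ⟨b⟩ := ClosedShriek.nonempty_push_RHomOD e
  obtain ⟨o⟩ := ClosedShriek.nonempty_adj e
  letI := o.rightAdjointCommShift ℤ
  exact ⟨(b.app _).symm ≪≫ (Scheme.Modules.pushforward e).mapDerivedCategory.mapIso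
    (((ClosedShriek.RHomOD e).commShiftIso n).app M) ≪≫
    ((Scheme.Modules.pushforward e).mapDerivedCategory.commShiftIso n).app _ ≪≫
    (shiftFunctor _ n).mapIso (b.app M)⟩

end Groth.Agent.AVExt16
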