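import Groth.Agent.Unram17Lib.RelDim
import Groth.Agent.AlgSpLib.FibreDimChart
import Groth.Agent.GenSmoothLib.SmoothDim

/-!
# The relative dimension of a smooth irreducible scheme over a field
-/

set_option autoImplicit false
set_option linter.style.haveILetI false

universe u

open CategoryTheory CategoryTheory.Limits AlgebraicGeometry
open Groth.Agent

namespace Groth.Agent.AVExt16

variable {k : Type u} [Field k] {X : Scheme.{u}} (f : X ⟶ Spec (CommRingCat.of k))

/-- A smooth irreducible scheme over a field is smooth of relative dimension its dimension. -/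
theorem smoothOfRelativeDimension_of_dim [Smooth f] [IrreducibleSpace X] (n : ℕ)
    (hdim : topologicalKrullDim X = n) : SmoothOfRelativeDimension n f := by
  choose V m hxV hm using fun x => Unram17Lib.exists_smoothOfRelativeDimension f x
  have h1 : ∀ x, m x = n := fun x => by
    have := hm x
    have h := Unram17Lib.localDim_of_smoothOfRelativeDimension k ((V x).ι ≫ f) (m x) ⟨x, hxV x⟩
    have := (V x).ι.isOpenEmbedding.quasiSober
    rw [AlgSpLib.localDim_eq_of_map (V x).ι.continuous (V x).ι.isOpenEmbedding.isOpenMap
      (V x).ι.isOpenEmbedding.generalizingMap (fun a a' _ e => (V x).ι.isOpenEmbedding.injective e) _] at h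
    have h2 := GenSmoothLib.localDim_eq_topologicalKrullDim f ((V x).ι ⟨x, hxV x⟩)
    rw [h, hdim] at h2
    exact_mod_cast h2
  refine IsZariskiLocalAtSource.of_iSup_eq_top (P := @SmoothOfRelativeDimension n) V ?_ fun x => ?_
  · exact eq_top_iff.2 fun x _ => TopologicalSpace.Opens.mem_iSup.2 ⟨x, hxV x⟩
  · have := hm x
    rwa [h1 x] at this

end Groth.Agent.AVExt16
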