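import Groth.Agent.DCat.ClosedShriek
import Groth.Agent.Dual6Lib.FundDerived
import Groth.Agent.S19478
import Groth.Agent.CAlgH3.RegularCore

/-!
# All cohomology sheaves of `RHom(k(0), O)`
-/

set_option autoImplicit false
set_option backward.isDefEq.respectTransparency false
set_option backward.defeqAttrib.useBackward true
set_option linter.style.haveILetI false

universe u

open CategoryTheory CategoryTheory.Limits MonoidalCategory CartesianMonoidalCategory MonObj GrpObj AlgebraicGeometry
open Groth.Agent.DCat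

attribute [local instance] HasDerivedCategory.standard
attribute [-instance] Int.instConditionallyCompleteLinearOrder

namespace Groth.Agent.AVExt16

/-- `RHom(O_Z, F)` has no cohomology in negative degrees for a module `F`. -/
theorem isZero_HD_RHomOD_neg {P X : Scheme.{u}} (j : X ⟶ P) [IsClosedImmersion j] [Dual3.HasHomO j] (F : P.Modules)
    (I : InjectiveResolution F) (p : ℤ) (hp : p < 0) :
    IsZero (DCoh.HD ((ClosedShriek.RHomOD j).obj (DCoh.inD P F)) p) := by
  haveI := ClosedShriek.hasRightDerived_homO j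
  let W := HomotopyCategory.quasiIso P.Modules (ComplexShape.up ℤ)
  let T := (Dual3.homO j).mapHomotopyCategory (ComplexShape.up ℤ) ⋙ DerivedCategory.Qh
  let β := T.totalRightDerivedUnit DerivedCategory.Qh W
  let J := (HomotopyCategory.quotient P.Modules (ComplexShape.up ℤ)).obj I.cochainComplex
  haveI : I.cochainComplex.IsKInjective := inferInstance
  haveI : IsIso (β.app J) := isIso_unit_of_mem (kInj_resolution (modules_enoughKInj P)) (kInj_isIso_map _) β
    (inferInstance : I.cochainComplex.IsKInjective)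
  let e₀ : DCoh.inD P F ≅ DerivedCategory.Qh.obj J :=
    (DerivedCategory.singleFunctorIsoCompQ P.Modules 0).app F ≪≫ asIso (DerivedCategory.Q.map I.«ι'») ≪≫
      ((DerivedCategory.quotientCompQhIso P.Modules).app I.cochainComplex).symm
  let e₁ : (ClosedShriek.RHomOD j).obj (DCoh.inD P F) ≅
      DerivedCategory.Q.obj (((Dual3.homO j).mapHomologicalComplex _).obj I.cochainComplex) :=
    (ClosedShriek.RHomOD j).mapIso e₀ ≪≫ (asIso (β.app J)).symm ≪≫
      DerivedCategory.Qh.mapIso (((Dual3.homO j).mapHomotopyCategoryFactors (ComplexShape.up ℤ)).app I.cochainComplex) ≪≫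
      (DerivedCategory.quotientCompQhIso X.Modules).app _
  refine IsZero.of_iso ?_ ((DerivedCategory.homologyFunctor X.Modules p).mapIso e₁ ≪≫
    (DerivedCategory.homologyFunctorFactors X.Modules p).app _)
  exact (HomologicalComplex.exactAt_iff_isZero_homology _ _).1 (ShortComplex.exact_of_isZero_X₂ _
    ((Dual3.homO j).map_isZero (CochainComplex.isZero_of_isStrictlyGE I.cochainComplex 0 p hp)))

/-- `Ext^p(k(0), O_A) = 0` for `p ≠ g`. -/
theorem isZero_HD_rhom_sky (k : Type u) [Field k] [IsAlgClosed k] [CharZero k]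
    (A : Over (Spec (CommRingCat.of k))) [GrpObj A] [IsProper A.hom] [Smooth A.hom] [GeometricallyConnected A.hom]
    (g : ℕ) (hg : topologicalKrullDim ↥A.left = g)
    [DCoh.HasLTensorCx (ClosedShriek.pushOne η[A].left)] [DCoh.HasRSheafHom (ClosedShriek.pushOne η[A].left)]
    (p : ℤ) (hp : p ≠ g) :
    IsZero (DCoh.HD ((DCoh.RSheafHom (ClosedShriek.pushOne η[A].left)).obj
      (DCoh.inD A.left (Coh.structureModule A.left))) p) := by
  let e₀ : Spec (CommRingCat.of k) ⟶ A.left := η[A].left
  have hι : e₀ ≫ A.hom = 𝟙 _ := Over.w η[A]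
  haveI : IsClosedImmersion (e₀ ≫ A.hom) := by rw [hι]; infer_instance
  haveI : IsClosedImmersion e₀ := IsClosedImmersion.of_comp e₀ A.hom
  haveI : IsLocallyNoetherian A.left := LocallyOfFiniteType.isLocallyNoetherian A.hom
  haveI : Dual3.HasHomO e₀ := (Groth.Agent.SerreDual.shriekAdj e₀).isLeftAdjoint
  haveI := Groth.Agent.ExtSS.preservesFiniteLimits_pushforward e₀
  haveI := Groth.Agent.ExtSS.preservesFiniteColimits_pushforward e₀
  haveI := Groth.Agent.Coherent.hasInjectiveResolutions_modules A.left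
  let I := injectiveResolution (Coh.structureModule A.left)
  haveI : DCoh.HasLTensorCx (ClosedShriek.pushOne e₀) := ‹DCoh.HasLTensorCx (ClosedShriek.pushOne η[A].left)›
  haveI : DCoh.HasRSheafHom (ClosedShriek.pushOne e₀) := ‹DCoh.HasRSheafHom (ClosedShriek.pushOne η[A].left)›
  obtain ⟨b⟩ := ClosedShriek.nonempty_push_RHomOD e₀
  let c : ∀ n : ℤ, DCoh.HD ((DCoh.RSheafHom (ClosedShriek.pushOne e₀)).obj (DCoh.inD A.left (Coh.structureModule A.left))) n ≅
      (Scheme.Modules.pushforward e₀).obj (DCoh.HD ((ClosedShriek.RHomOD e₀).obj (DCoh.inD A.left (Coh.structureModule A.left))) n) :=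
    fun n => (DerivedCategory.homologyFunctor _ n).mapIso (b.app _).symm ≪≫
      Groth.Agent.DCat.SuppOpen.hdMapIso (Scheme.Modules.pushforward e₀) _ _
  by_cases h0 : p < 0
  · exact IsZero.of_iso ((Scheme.Modules.pushforward e₀).map_isZero (isZero_HD_RHomOD_neg e₀ _ I p h0)) (c p)
  · obtain ⟨n, rfl⟩ : ∃ n : ℕ, p = (n : ℤ) := ⟨p.toNat, by omega⟩
    by_cases hn : n < g
    · exact (Groth.Agent.S19478.result k A g hg).1 n hn
    · obtain ⟨e⟩ := Groth.Agent.Dual6Lib.FundDerived.nonempty_push_HD e₀ (Coh.structureModule A.left) I n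
      refine IsZero.of_iso ?_ (c n ≪≫ e)
      refine Groth.Agent.SerreDual.isZero_homology_of_cm e₀
        (fun z => Groth.Agent.CycLib28.isRegularLocalRing_stalk A.hom z) (fun x => ?_) n
        (fun x => ⟨g, 0, ?_, ?_, by omega⟩)
        (Groth.Agent.PicLib.isFinLocFreeOfRank_one Groth.Agent.AmpleLib.isInvertible_structureModule) I
      · haveI := Groth.Agent.CycLib28.isRegularLocalRing_stalk (𝟙 (Spec (CommRingCat.of k))) x
        exact Groth.Agent.CAlgH3.isCohenMacaulayLocalRing_of_regular _
      · haveI : Subsingleton (Spec (CommRingCat.of k)) := inferInstanceAs (Subsingleton (PrimeSpectrum k))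
        refine (Groth.Agent.AlgGrpLib.ringKrullDim_stalk_of_isClosed A (e₀.base x) ?_).trans hg
        have hx : ({e₀.base x} : Set A.left) = e₀.base '' Set.univ := by
          rw [Set.image_univ]; ext z
          exact ⟨fun h => ⟨x, h.symm⟩, fun ⟨x', h⟩ => h ▸ congrArg e₀.base (Subsingleton.elim x' x)⟩
        rw [hx]
        exact e₀.isClosedEmbedding.isClosedMap _ isClosed_univ
      · obtain ⟨ψ⟩ := Groth.Agent.FMK16.nonempty_stalk_equiv (𝟙 (Spec (CommRingCat.of k))) x
        haveI : x.asIdeal.IsPrime := x.isPrime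
        have hbot : x.asIdeal = ⊥ := (Ideal.eq_bot_or_top x.asIdeal).resolve_right x.isPrime.ne_top
        refine (ringKrullDim_eq_of_ringEquiv ψ).symm.trans ?_
        rw [IsLocalization.AtPrime.ringKrullDim_eq_height x.asIdeal (Localization.AtPrime x.asIdeal), hbot, Ideal.height_bot]
        rfl

end Groth.Agent.AVExt16
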