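import Groth.Agent.AVExt16.DualSeq
import Groth.Agent.AVExt16.SkyExt
import Groth.Agent.DCat.RHomLeft
import Groth.Agent.FlatMor12.Cube.Sheaves
import Groth.Agent.BCFlat16.Ten
import Groth.Agent.Dual22Lib.TenLocal

/-!
# The triangle `O → I₀^∨ → k(0)[1 - g]` and its nonvanishing connecting map
-/

set_option autoImplicit false
set_option backward.isDefEq.respectTransparency false
set_option backward.defeqAttrib.useBackward true
set_option linter.style.haveILetI false

universe u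

open CategoryTheory CategoryTheory.Limits CategoryTheory.Pretriangulated MonoidalCategory CartesianMonoidalCategory MonObj GrpObj AlgebraicGeometry
open Groth.Agent Groth.Agent.DCat

attribute [local instance] HasDerivedCategory.standard
attribute [-instance] Int.instConditionallyCompleteLinearOrder

namespace Groth.Agent.AVExt16

/-- A morphism completed to a cocone compares with another one. -/
theorem isIso_of_cocone {C : Type*} [Category C] [Abelian C] [HasDerivedCategory C] {R₂ R₁ R₃ C' : DerivedCategory C}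
    (f : R₂ ⟶ R₁) (δ : R₁ ⟶ R₃) (c : C' ⟶ R₁) (ψ : R₂ ⟶ C') (h : R₃ ⟶ C'⟦(1 : ℤ)⟧)
    (hT : Triangle.mk c δ h ∈ distTriang (DerivedCategory C)) (hψ : ψ ≫ c = f) (w : f ≫ δ = 0)
    (hm : ∀ i, Mono ((DerivedCategory.homologyFunctor C i).map f))
    (hex : ∀ i, ((ShortComplex.mk f δ w).map (DerivedCategory.homologyFunctor C i)).Exact)
    (he : ∀ i, Epi ((DerivedCategory.homologyFunctor C i).map δ)) : IsIso ψ := by
  refine (DerivedCategory.isIso_iff C ψ).2 fun i => ?_
  let H := DerivedCategory.homologyFunctor C i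
  haveI : Mono (H.map c) := by
    refine ((DerivedCategory.HomologySequence.mono_homologyMap_mor₁_iff _ hT (i - 1) i (by omega)).2 ?_)
    have h3 := DerivedCategory.HomologySequence.comp_δ _ hT (i - 1) i (by omega)
    haveI := he (i - 1)
    exact (cancel_epi ((DerivedCategory.homologyFunctor C (i - 1)).map δ)).1 (h3.trans comp_zero.symm)
  have hcomp : H.map ψ ≫ H.map c = H.map f := by rw [← H.map_comp, hψ]
  haveI := hm i
  haveI : Mono (H.map ψ) := mono_of_mono_fac hcomp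
  haveI : Epi (H.map ψ) := by
    haveI : Mono ((ShortComplex.mk f δ w).map (DerivedCategory.homologyFunctor C i)).f := hm i
    let t := (hex i).lift (H.map c) (by
      show H.map c ≫ H.map δ = 0
      rw [← H.map_comp, show c ≫ δ = 0 from comp_distTriang_mor_zero₁₂ _ hT, H.map_zero])
    have ht : t ≫ H.map f = H.map c := (hex i).lift_f _ _
    haveI : IsSplitEpi (H.map ψ) := ⟨⟨⟨t, by rw [← cancel_mono (H.map c), Category.assoc, hcomp, ht, Category.id_comp]⟩⟩⟩
    infer_instance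
  exact isIso_of_mono_of_epi _

/-- Objects with one cohomology object. -/
theorem nonempty_iso_inD {C : Type*} [Category C] [Abelian C] [HasDerivedCategory C] (K : DerivedCategory C) (n : ℤ)
    (hz : ∀ i : ℤ, i ≠ n → IsZero ((DerivedCategory.homologyFunctor C i).obj K)) {M : C}
    (e : (DerivedCategory.homologyFunctor C n).obj K ≅ M) :
    Nonempty (K ≅ ((DerivedCategory.singleFunctor C 0).obj M)⟦-n⟧) := by
  haveI : K.IsGE n := (DerivedCategory.isGE_iff _ _).2 fun i hi => hz i (by omega)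
  haveI : K.IsLE n := (DerivedCategory.isLE_iff _ _).2 fun i hi => hz i (by omega)
  obtain ⟨N, ⟨eN⟩⟩ := DerivedCategory.exists_iso_singleFunctor_obj_of_isGE_of_isLE K n
  let iM : N ≅ M := ((DerivedCategory.singleFunctorCompHomologyFunctorIso C n).app N).symm ≪≫
    (DerivedCategory.homologyFunctor C n).mapIso eN.symm ≪≫ e
  exact ⟨eN ≪≫ (DerivedCategory.singleFunctor C n).mapIso iM ≪≫
    (((DerivedCategory.singleFunctors C).shiftIso (-n) n 0 (by omega)).app _).symm⟩

/-- `k(0)` on an abelian variety. -/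
noncomputable abbrev sky {k : Type u} [Field k] (A : Over (Spec (CommRingCat.of k))) [GrpObj A] : A.left.Modules :=
  (Scheme.Modules.pushforward η[A].left).obj (Coh.structureModule (Spec (CommRingCat.of k)))

theorem not_isZero_sky {k : Type u} [Field k] (A : Over (Spec (CommRingCat.of k))) [GrpObj A] : ¬ IsZero (sky A) := by
  intro h
  have h1 := congrArg (fun φ : sky A ⟶ sky A => (φ.app ⊤) (1 : Γ(Spec (CommRingCat.of k), η[A].left ⁻¹ᵁ ⊤)))
    ((IsZero.iff_id_eq_zero _).1 h)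
  haveI : Nontrivial Γ(Spec (CommRingCat.of k), η[A].left ⁻¹ᵁ ⊤) :=
    (Scheme.ΓSpecIso (CommRingCat.of k)).commRingCatIsoToRingEquiv.toEquiv.nontrivial
  exact one_ne_zero (α := Γ(Spec (CommRingCat.of k), η[A].left ⁻¹ᵁ ⊤)) h1

variable {X : Scheme.{u}}

local notation "sg" => HomologicalComplex.single X.Modules (ComplexShape.up ℤ) 0

/-- The long exact sequence gives a triangle when the outer maps split the cohomology. -/
theorem exists_rhom_triangle (T : ShortComplex X.Modules) (hT : T.ShortExact)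
    [DCoh.HasLTensorCx ((sg).obj T.X₁)] [DCoh.HasRSheafHom ((sg).obj T.X₁)]
    [DCoh.HasLTensorCx ((sg).obj T.X₂)] [DCoh.HasRSheafHom ((sg).obj T.X₂)]
    [DCoh.HasLTensorCx ((sg).obj T.X₃)] [DCoh.HasRSheafHom ((sg).obj T.X₃)] (M : DCoh.D X)
    (hA : ∀ i : ℤ, IsZero ((DerivedCategory.homologyFunctor X.Modules i).obj ((DCoh.RSheafHom ((sg).obj T.X₂)).obj M)) ∨
      IsZero ((DerivedCategory.homologyFunctor X.Modules i).obj ((DCoh.RSheafHom ((sg).obj T.X₃)).obj M)))
    (hB : ∀ i : ℤ, IsZero ((DerivedCategory.homologyFunctor X.Modules i).obj ((DCoh.RSheafHom ((sg).obj T.X₂)).obj (M⟦(1 : ℤ)⟧))) ∨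
      IsZero ((DerivedCategory.homologyFunctor X.Modules i).obj ((DCoh.RSheafHom ((sg).obj T.X₃)).obj (M⟦(1 : ℤ)⟧)))) :
    ∃ (f : (DCoh.RSheafHom ((sg).obj T.X₂)).obj M ⟶ (DCoh.RSheafHom ((sg).obj T.X₁)).obj M)
      (δ : (DCoh.RSheafHom ((sg).obj T.X₁)).obj M ⟶ (DCoh.RSheafHom ((sg).obj T.X₃)).obj (M⟦(1 : ℤ)⟧))
      (h : (DCoh.RSheafHom ((sg).obj T.X₃)).obj (M⟦(1 : ℤ)⟧) ⟶ ((DCoh.RSheafHom ((sg).obj T.X₂)).obj M)⟦(1 : ℤ)⟧),
      Triangle.mk f δ h ∈ distTriang (DCoh.D X) := by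
  obtain ⟨f, gg, δ, g', w₁, w₂, w₃, hseq⟩ := exists_rhom_seq T hT M
  let H : ℤ → DCoh.D X ⥤ X.Modules := fun i => DerivedCategory.homologyFunctor X.Modules i
  have hm : ∀ i, Mono ((H i).map f) := fun i => by
    rcases hA i with hz | hz
    · exact mono_of_source_iso_zero _ hz.isoZero
    · exact (hseq i).1.mono_g (hz.eq_of_src _ _)
  have he : ∀ i, Epi ((H i).map δ) := fun i => by
    rcases hB i with hz | hz
    · exact (hseq i).2.2.epi_f (hz.eq_of_tgt _ _)
    · exact epi_of_target_iso_zero _ hz.isoZero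
  obtain ⟨C', c, h, hC⟩ := distinguished_cocone_triangle₁ δ
  obtain ⟨ψ, hψ⟩ := Triangle.coyoneda_exact₂ _ hC f w₂
  haveI : IsIso ψ := isIso_of_cocone f δ c ψ h hC hψ.symm w₂ hm (fun i => (hseq i).2.1) he
  refine ⟨f, δ, h ≫ (inv ψ)⟦(1 : ℤ)⟧', isomorphic_distinguished _ hC _ ?_⟩
  refine Triangle.isoMk _ _ (asIso ψ) (Iso.refl _) (Iso.refl _) ?_ ?_ ?_
  · simpa using hψ
  · simp
  · simp [← Functor.map_comp]

/-- `exists_rhom_triangle` with the modules spelled out. -/
theorem exists_rhom_triangle' (T : ShortComplex X.Modules) (hT : T.ShortExact) {N F S : X.Modules}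
    (h₁ : T.X₁ = N) (h₂ : T.X₂ = F) (h₃ : T.X₃ = S)
    [hN : DCoh.HasLTensorCx ((sg).obj N)] [hN' : DCoh.HasRSheafHom ((sg).obj N)]
    [hF : DCoh.HasLTensorCx ((sg).obj F)] [hF' : DCoh.HasRSheafHom ((sg).obj F)]
    [hS : DCoh.HasLTensorCx ((sg).obj S)] [hS' : DCoh.HasRSheafHom ((sg).obj S)] (M : DCoh.D X)
    (hA : ∀ i : ℤ, IsZero ((DerivedCategory.homologyFunctor X.Modules i).obj ((DCoh.RSheafHom ((sg).obj F)).obj M)) ∨
      IsZero ((DerivedCategory.homologyFunctor X.Modules i).obj ((DCoh.RSheafHom ((sg).obj S)).obj M)))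
    (hB : ∀ i : ℤ, IsZero ((DerivedCategory.homologyFunctor X.Modules i).obj ((DCoh.RSheafHom ((sg).obj F)).obj (M⟦(1 : ℤ)⟧))) ∨
      IsZero ((DerivedCategory.homologyFunctor X.Modules i).obj ((DCoh.RSheafHom ((sg).obj S)).obj (M⟦(1 : ℤ)⟧)))) :
    ∃ (f : (DCoh.RSheafHom ((sg).obj F)).obj M ⟶ (DCoh.RSheafHom ((sg).obj N)).obj M)
      (δ : (DCoh.RSheafHom ((sg).obj N)).obj M ⟶ (DCoh.RSheafHom ((sg).obj S)).obj (M⟦(1 : ℤ)⟧))
      (h : (DCoh.RSheafHom ((sg).obj S)).obj (M⟦(1 : ℤ)⟧) ⟶ ((DCoh.RSheafHom ((sg).obj F)).obj M)⟦(1 : ℤ)⟧),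
      Triangle.mk f δ h ∈ distTriang (DCoh.D X) := by
  subst h₁ h₂ h₃
  exact exists_rhom_triangle T hT M hA hB

/-- Maps from a shifted module into `RHom(N, M)` vanish for degree reasons. -/
theorem eq_zero_to_rhom {Z : Scheme.{u}} (e : Z ⟶ X) [IsClosedImmersion e] (N : X.Modules)
    [DCoh.HasLTensorCx ((sg).obj N)] [DCoh.HasRSheafHom ((sg).obj N)]
    [DCoh.HasLTensorCx (ClosedShriek.pushOne e)] [DCoh.HasRSheafHom (ClosedShriek.pushOne e)] (M : DCoh.D X) (m : ℤ)
    [((DCoh.RSheafHom (ClosedShriek.pushOne e)).obj (M⟦m⟧)).IsGE 1]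
    (x : (DCoh.inD X ((Scheme.Modules.pushforward e).obj (Coh.structureModule Z)))⟦-m⟧ ⟶
      (DCoh.RSheafHom ((sg).obj N)).obj M) : x = 0 := by
  let S := DCoh.inD X ((Scheme.Modules.pushforward e).obj (Coh.structureModule Z))
  let LI := DCoh.LTensorCx ((sg).obj N)
  obtain ⟨P₁, hP₁, ⟨eP₁⟩⟩ := PullPerf.exists_kflat_rep (DCoh.inD X N)
  obtain ⟨P₃, hP₃, ⟨eP₃⟩⟩ := PullPerf.exists_kflat_rep S
  haveI := LTensorSheaf.hasLTensorCx P₁
  haveI := LTensorSheaf.hasLTensorCx P₃
  obtain ⟨t₁⟩ := TensorCongr.nonempty_congr (E := P₁) (E' := (sg).obj N)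
    (eP₁ ≪≫ (DerivedCategory.singleFunctorIsoCompQ _ 0).app _)
  obtain ⟨t₃⟩ := TensorCongr.nonempty_congr (E := P₃) (E' := ClosedShriek.pushOne e)
    (eP₃ ≪≫ (DerivedCategory.singleFunctorIsoCompQ _ 0).app _)
  let sw : LI.obj S ≅ (DCoh.LTensorCx (ClosedShriek.pushOne e)).obj (DCoh.inD X N) :=
    LI.mapIso eP₃.symm ≪≫ (t₁.app _).symm ≪≫ LTensorSheaf.ltensorCxIso' hP₁ P₃ ≪≫
      DerivedCategory.Q.mapIso (TotSymm.symmIso (shT X) TotSymm.braid (fun f b => TotSymm.braid_nat₁ f b)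
        (fun a _ _ g => TotSymm.braid_nat₂ a g) P₃ P₁) ≪≫ (LTensorSheaf.ltensorCxIso' hP₃ P₁).symm ≪≫
      t₃.app _ ≪≫ (DCoh.LTensorCx (ClosedShriek.pushOne e)).mapIso eP₁
  obtain ⟨j⟩ := BCFlat16.nonempty_map_shift (Dual22Lib.TenLocal.triExact_LTensor ((sg).obj N)) S (-m)
  have h1 : ∀ y : DCoh.inD X N ⟶ (DCoh.RSheafHom (ClosedShriek.pushOne e)).obj (M⟦m⟧), y = 0 := fun y =>
    DerivedCategory.TStructure.t.zero_of_isLE_of_isGE y 0 1 (by omega) inferInstance inferInstance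
  have h2 : ∀ y : ((DCoh.LTensorCx (ClosedShriek.pushOne e)).obj (DCoh.inD X N))⟦-m⟧ ⟶ M, y = 0 := fun y => by
    apply ((shiftEquiv' (DCoh.D X) (-m) m (by omega)).toAdjunction.homEquiv _ M).injective
    apply ((DCoh.RSheafHomAdj (ClosedShriek.pushOne e)).homEquiv _ _).injective
    exact (h1 _).trans (h1 _).symm
  apply ((DCoh.RSheafHomAdj ((sg).obj N)).homEquiv (S⟦-m⟧) M).symm.injective
  rw [← cancel_epi (j ≪≫ (shiftFunctor _ _).mapIso sw).inv]
  exact (h2 _).trans (h2 _).symm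

/-- The triangle `O → RHom(I, O) → (e_* O)[1 - g] → O[1]` and its nonvanishing. -/
theorem exists_dual_triangle_of {Z : Scheme.{u}} (e : Z ⟶ X) [IsClosedImmersion e] [Dual3.HasHomO e]
    [PreservesFiniteLimits (Scheme.Modules.pushforward e)] [PreservesFiniteColimits (Scheme.Modules.pushforward e)]
    [Epi (ClSub.unitToPush e)] (g : ℕ) (hg1 : 1 ≤ g)
    [DCoh.HasLTensorCx (ClosedShriek.pushOne e)] [DCoh.HasRSheafHom (ClosedShriek.pushOne e)]
    (z : ∀ i : ℤ, i ≠ g → IsZero ((DerivedCategory.homologyFunctor X.Modules i).obj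
      ((DCoh.RSheafHom (ClosedShriek.pushOne e)).obj (DCoh.inD X (Coh.structureModule X)))))
    (q : (DerivedCategory.homologyFunctor X.Modules (g : ℤ)).obj
      ((DCoh.RSheafHom (ClosedShriek.pushOne e)).obj (DCoh.inD X (Coh.structureModule X))) ≅
        (Scheme.Modules.pushforward e).obj (Coh.structureModule Z))
    (hne : ¬ IsZero ((Scheme.Modules.pushforward e).obj (Coh.structureModule Z)))
    [DCoh.HasLTensorCx ((sg).obj (kernel (ClSub.unitToPush e)))] [DCoh.HasRSheafHom ((sg).obj (kernel (ClSub.unitToPush e)))] :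
    ∃ (a : DCoh.inD X (Coh.structureModule X) ⟶ (DCoh.RSheafHom ((sg).obj (kernel (ClSub.unitToPush e)))).obj (DCoh.inD X (Coh.structureModule X)))
      (b : (DCoh.RSheafHom ((sg).obj (kernel (ClSub.unitToPush e)))).obj (DCoh.inD X (Coh.structureModule X)) ⟶ (DCoh.inD X ((Scheme.Modules.pushforward e).obj (Coh.structureModule Z)))⟦-((g : ℤ) - 1)⟧)
      (h : (DCoh.inD X ((Scheme.Modules.pushforward e).obj (Coh.structureModule Z)))⟦-((g : ℤ) - 1)⟧ ⟶ (DCoh.inD X (Coh.structureModule X))⟦(1 : ℤ)⟧),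
      Triangle.mk a b h ∈ distTriang (DCoh.D X) ∧ h ≠ 0 := by
  have hT : (ShortComplex.mk _ _ (kernel.condition (ClSub.unitToPush e))).ShortExact :=
    { exact := (ShortComplex.mk _ _ (kernel.condition (ClSub.unitToPush e))).exact_of_f_is_kernel (kernelIsKernel _) }
  haveI : DCoh.HasLTensorCx ((sg).obj (Coh.structureModule X)) := LTensorSheaf.hasLTensorCx _
  haveI : DCoh.HasRSheafHom ((sg).obj (Coh.structureModule X)) := RHomExist.hasRSheafHom _
  let O := Coh.structureModule X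
  let M := DCoh.inD X O
  obtain ⟨r⟩ := RHomLeft.nonempty_RHom_structure (X := X)
  obtain ⟨s⟩ := nonempty_rhom_pushOne_shift e M 1
  obtain ⟨e3⟩ := nonempty_iso_inD ((DCoh.RSheafHom (ClosedShriek.pushOne e)).obj M) (g : ℤ)
    z (M := (Scheme.Modules.pushforward e).obj (Coh.structureModule Z)) q
  let D₀ := (DCoh.inD X ((Scheme.Modules.pushforward e).obj (Coh.structureModule Z)))⟦-((g : ℤ) - 1)⟧
  let eD : (DCoh.RSheafHom (ClosedShriek.pushOne e)).obj (M⟦(1 : ℤ)⟧) ≅ D₀ :=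
    s ≪≫ (shiftFunctor _ (1 : ℤ)).mapIso e3 ≪≫ ((shiftFunctorAdd' _ (-(g : ℤ)) 1 (-((g : ℤ) - 1)) (by omega)).app _).symm
  have hO : ∀ i : ℤ, i ≠ 0 → IsZero ((DerivedCategory.homologyFunctor X.Modules i).obj M) := fun i hi => by
    rcases lt_or_gt_of_ne hi with h | h
    · exact DerivedCategory.isZero_of_isGE ((DerivedCategory.singleFunctor X.Modules 0).obj O) 0 i h
    · exact DerivedCategory.isZero_of_isLE ((DerivedCategory.singleFunctor X.Modules 0).obj O) 0 i h
  obtain ⟨f, δ, h, hTri⟩ := exists_rhom_triangle' _ hT (N := kernel (ClSub.unitToPush e)) (F := Coh.structureModule X)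
    (S := (Scheme.Modules.pushforward e).obj (Coh.structureModule _)) rfl rfl rfl M
    (fun i => by
      by_cases hi : i = 0
      · exact Or.inr (z i (by omega))
      · exact Or.inl (IsZero.of_iso (hO i hi) ((DerivedCategory.homologyFunctor _ i).mapIso (r.app M))))
    (fun i => by
      by_cases hi : i = (g : ℤ) - 1
      · exact Or.inl (IsZero.of_iso (hO (i + 1) (by omega)) ((DerivedCategory.homologyFunctor _ i).mapIso (r.app _) ≪≫
          ((DerivedCategory.homologyFunctor X.Modules 0).shiftIso 1 i (i + 1) (by omega)).app M))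
      · exact Or.inr (IsZero.of_iso (z (i + 1) (by omega))
          ((DerivedCategory.homologyFunctor _ i).mapIso s ≪≫
          ((DerivedCategory.homologyFunctor X.Modules 0).shiftIso 1 i (i + 1) (by omega)).app _)))
  refine ⟨(r.app M).inv ≫ f, δ ≫ eD.hom, eD.inv ≫ h ≫ (r.app M).hom⟦(1 : ℤ)⟧', ?_, ?_⟩
  · refine isomorphic_distinguished _ hTri _ ?_
    refine Triangle.isoMk _ _ (r.app M).symm (Iso.refl _) eD.symm ?_ ?_ ?_
    · simp
    · simp
    · simp [← Functor.map_comp]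
  · intro h0
    have hh : h = 0 := by
      rw [← cancel_epi eD.inv, ← cancel_mono ((shiftFunctor (DCoh.D X) (1 : ℤ)).map (r.app M).hom)]
      simpa using h0
    obtain ⟨t, ht⟩ := Triangle.coyoneda_exact₃ _ hTri (𝟙 _) (by simp [hh])
    obtain ⟨s'⟩ := nonempty_rhom_pushOne_shift e M ((g : ℤ) - 1)
    haveI : ((DCoh.RSheafHom (ClosedShriek.pushOne e)).obj (M⟦(g : ℤ) - 1⟧)).IsGE 1 :=
      (DerivedCategory.isGE_iff _ _).2 fun i hi =>
        IsZero.of_iso (z (i + ((g : ℤ) - 1)) (by omega))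
          ((DerivedCategory.homologyFunctor _ i).mapIso s' ≪≫
            ((DerivedCategory.homologyFunctor X.Modules 0).shiftIso ((g : ℤ) - 1) i (i + ((g : ℤ) - 1)) (by omega)).app _)
    have hz := eq_zero_to_rhom e (kernel (ClSub.unitToPush e)) M ((g : ℤ) - 1) (eD.inv ≫ t)
    have hD0 : IsZero D₀ := by
      rw [IsZero.iff_id_eq_zero]
      have hte : (eD.inv ≫ t) ≫ (δ ≫ eD.hom) = 𝟙 D₀ := by
        rw [Category.assoc, ← Category.assoc t, show t ≫ δ = 𝟙 _ from ht.symm, Category.id_comp, Iso.inv_hom_id]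
      rw [← hte, hz, zero_comp]
    have hd : IsZero (DCoh.inD X ((Scheme.Modules.pushforward e).obj (Coh.structureModule Z))) :=
      (Functor.map_isZero (shiftFunctor (DCoh.D X) ((g : ℤ) - 1)) hD0).of_iso
        ((shiftFunctorCompIsoId (DCoh.D X) (-((g : ℤ) - 1)) ((g : ℤ) - 1) (by omega)).app _).symm
    have hs : IsZero ((Scheme.Modules.pushforward e).obj (Coh.structureModule Z)) := ((DerivedCategory.homologyFunctor X.Modules 0).map_isZero hd).of_iso
      ((DerivedCategory.singleFunctorCompHomologyFunctorIso X.Modules 0).app ((Scheme.Modules.pushforward e).obj (Coh.structureModule Z))).symm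
    exact hne hs

/-- The triangle `O → I₀^∨ → k(0)[1 - g] → O[1]`, with nonzero connecting map. -/
theorem exists_dual_triangle (k : Type u) [Field k] [IsAlgClosed k] [CharZero k]
    (A : Over (Spec (CommRingCat.of k))) [GrpObj A] [IsProper A.hom] [Smooth A.hom] [GeometricallyConnected A.hom]
    (g : ℕ) (hg : topologicalKrullDim ↥A.left = g) (hg1 : 1 ≤ g)
    [DCoh.HasLTensorCx ((HomologicalComplex.single A.left.Modules (ComplexShape.up ℤ) 0).obj (kernel (ClSub.unitToPush η[A].left)))] [DCoh.HasRSheafHom ((HomologicalComplex.single A.left.Modules (ComplexShape.up ℤ) 0).obj (kernel (ClSub.unitToPush η[A].left)))] :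
    ∃ (a : DCoh.inD A.left (Coh.structureModule A.left) ⟶ (DCoh.RSheafHom ((HomologicalComplex.single A.left.Modules (ComplexShape.up ℤ) 0).obj (kernel (ClSub.unitToPush η[A].left)))).obj (DCoh.inD A.left (Coh.structureModule A.left)))
      (b : (DCoh.RSheafHom ((HomologicalComplex.single A.left.Modules (ComplexShape.up ℤ) 0).obj (kernel (ClSub.unitToPush η[A].left)))).obj (DCoh.inD A.left (Coh.structureModule A.left)) ⟶ (DCoh.inD A.left (sky A))⟦-((g : ℤ) - 1)⟧)
      (h : (DCoh.inD A.left (sky A))⟦-((g : ℤ) - 1)⟧ ⟶ (DCoh.inD A.left (Coh.structureModule A.left))⟦(1 : ℤ)⟧),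
      Triangle.mk a b h ∈ distTriang (DCoh.D A.left) ∧ h ≠ 0 := by
  let e₀ : Spec (CommRingCat.of k) ⟶ A.left := η[A].left
  have hι : e₀ ≫ A.hom = 𝟙 _ := Over.w η[A]
  haveI : IsClosedImmersion (e₀ ≫ A.hom) := by rw [hι]; infer_instance
  haveI : IsClosedImmersion e₀ := IsClosedImmersion.of_comp e₀ A.hom
  haveI : Epi (ClSub.unitToPush e₀) := FlatMor12.Cube.epi_unitToPush e₀ A.hom hι
  haveI : Dual3.HasHomO e₀ := (SerreDual.shriekAdj e₀).isLeftAdjoint
  haveI := ExtSS.preservesFiniteLimits_pushforward e₀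
  haveI := ExtSS.preservesFiniteColimits_pushforward e₀
  haveI : DCoh.HasLTensorCx ((HomologicalComplex.single A.left.Modules (ComplexShape.up ℤ) 0).obj
    (Coh.structureModule A.left)) := LTensorSheaf.hasLTensorCx _
  haveI : DCoh.HasRSheafHom ((HomologicalComplex.single A.left.Modules (ComplexShape.up ℤ) 0).obj
    (Coh.structureModule A.left)) := RHomExist.hasRSheafHom _
  haveI : DCoh.HasLTensorCx (ClosedShriek.pushOne e₀) := LTensorSheaf.hasLTensorCx _
  haveI : DCoh.HasRSheafHom (ClosedShriek.pushOne e₀) := RHomExist.hasRSheafHom _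
  haveI i3 : DCoh.HasLTensorCx (ClosedShriek.pushOne η[A].left) := ‹DCoh.HasLTensorCx (ClosedShriek.pushOne e₀)›
  haveI j3 : DCoh.HasRSheafHom (ClosedShriek.pushOne η[A].left) := ‹DCoh.HasRSheafHom (ClosedShriek.pushOne e₀)›
  obtain ⟨q⟩ := (Groth.Agent.S19478.result k A g hg).2
  exact exists_dual_triangle_of e₀ g hg1 (fun i hi => isZero_HD_rhom_sky k A g hg i hi) q (not_isZero_sky A)

end Groth.Agent.AVExt16
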