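import Groth.Agent.BCFlat16.FMInv
import Groth.Agent.BCFlat16.FMObj
import Groth.Agent.BCFlat16.FMTen
import Groth.Agent.BCFlat16.TenInv
import Groth.Agent.DQCoh.PscFinite
import Groth.Agent.DQCoh.Push

/-!
# Fourier-Mukai transforms of `O` and `k(0)`
-/

set_option autoImplicit false
set_option backward.isDefEq.respectTransparency false
set_option backward.isDefEq.respectTransparency.types false
set_option linter.style.haveILetI false
set_option synthInstance.maxHeartbeats 100000

universe u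

open CategoryTheory CategoryTheory.Limits MonoidalCategory CartesianMonoidalCategory MonObj GrpObj AlgebraicGeometry
open Groth.Agent Groth.Agent.PicLib Groth.Agent.AbDualLib Groth.Agent.BCFlat16

attribute [local instance] HasDerivedCategory.standard

namespace Groth.Agent.AVExt16

variable {k : Type u} [Field k] {A At : Over (Spec (CommRingCat.of k))}
  [GrpObj A] [IsProper A.hom] [Smooth A.hom] [GeometricallyConnected A.hom]
  [GrpObj At] [IsProper At.hom] [Smooth At.hom] [GeometricallyConnected At.hom]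
  {φ : ∀ T : Over (Spec (CommRingCat.of k)), PicF.Cl (PicF.XT A.hom T) → (T ⟶ At)}
  (hφ : AbDual.IsDualAV Scheme.fppfPrecoverage A At φ) {P : (pullback A.hom At.hom).Modules}
  (hP : PicF.IsInvertible P) (hPξ : AbDual.IsPoincareCl A At φ (PicF.cl P))
  {g : ℕ} (hg : topologicalKrullDim A.left = g)
  [DCoh.HasLpull (pullback.fst A.hom At.hom)] [DCoh.HasLTensorMod P] [DCoh.HasRpush (pullback.snd A.hom At.hom)]

include hφ hP hPξ hg in
/-- `Φ(O_A) = k(0)[-g]`. -/
theorem nonempty_FM_structure (eT : Spec (CommRingCat.of k) ⟶ At.left) (heT : eT = η[At].left) :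
    Nonempty ((DCoh.Lpull (pullback.fst A.hom At.hom) ⋙ DCoh.LTensorMod P ⋙ DCoh.Rpush (pullback.snd A.hom At.hom)).obj
        (DCoh.inD A.left (Coh.structureModule A.left)) ≅
      (DCoh.inD At.left ((Scheme.Modules.pushforward eT).obj (Coh.structureModule (Spec (CommRingCat.of k)))))⟦-(g : ℤ)⟧) := by
  haveI : IsClosedImmersion eT := heT ▸ isClosedImmersion_unit At
  haveI := DCat.hasRpush eT
  haveI := Coherent.hasInjectiveResolutions_modules (A ⊗ At).left
  haveI : HasInjectiveResolutions (pullback A.hom At.hom).Modules := Coherent.hasInjectiveResolutions_modules _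
  obtain ⟨a⟩ := nonempty_of_rpush (pullback.snd A.hom At.hom) P eT g
    (fun i hi => AbCohLib.isZero_rpush_ne hφ (P := P) hP hPξ hg hi) (by
      subst heT
      exact AbCohLib.nonempty_rpush_top_iso hφ (P := P) hP hPξ hg)
  haveI := QCohLoc.isQCoh_structureModule (Spec (CommRingCat.of k))
  obtain ⟨b⟩ := DQCoh.nonempty_Rpush_inD eT (Coh.structureModule (Spec (CommRingCat.of k)))
  obtain ⟨l⟩ := nonempty_Lpull_inD (pullback.fst A.hom At.hom) (AmpleLib.isInvertible_structureModule (X := A.left))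
  obtain ⟨n⟩ := nonempty_LTensorMod_nat P
  obtain ⟨t⟩ := nonempty_inD_tens P
  have e1 : (DCoh.Lpull (pullback.fst A.hom At.hom)).obj (DCoh.inD A.left (Coh.structureModule A.left)) ≅ ox (pullback A.hom At.hom) :=
    l ≪≫ (DerivedCategory.singleFunctor _ 0).mapIso (PicLoc.pullbackStructureIso _ ≪≫ (DQCoh.topStructIso _).symm) ≪≫ inDIso _
  have e2 : (DCoh.LTensorMod P).obj (ox (pullback A.hom At.hom)) ≅ DCoh.inD _ P := n.app _ ≪≫ t
  have e3 : (DCoh.LTensorMod P).obj ((DCoh.Lpull (pullback.fst A.hom At.hom)).obj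
      (DCoh.inD A.left (Coh.structureModule A.left))) ≅ DCoh.inD (pullback A.hom At.hom) P :=
    (DCoh.LTensorMod P).mapIso e1 ≪≫ e2
  have e4 := (DCoh.Rpush (pullback.snd A.hom At.hom)).mapIso e3
  have e5 := e4 ≪≫ a
  have e6 := e5 ≪≫ (shiftFunctor (DCoh.D At.left) (-(g : ℤ))).mapIso b
  exact ⟨e6⟩

include hφ hP hPξ in
/-- `Φ(k(0)) = O`. -/
theorem nonempty_FM_sky (eA : Spec (CommRingCat.of k) ⟶ A.left) (heA : eA = η[A].left) :
    Nonempty ((DCoh.Lpull (pullback.fst A.hom At.hom) ⋙ DCoh.LTensorMod P ⋙ DCoh.Rpush (pullback.snd A.hom At.hom)).obj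
        (DCoh.inD A.left ((Scheme.Modules.pushforward eA).obj (Coh.structureModule (Spec (CommRingCat.of k))))) ≅
      DCoh.inD At.left (Coh.structureModule At.left)) := by
  obtain ⟨Pc, hPc, h0, hid, hrig⟩ := exists_poincare hPξ
  obtain rfl : Pc = PicM.of hP := PicM.ext hPc.symm
  obtain ⟨i, hi⟩ : ∃ i : At.left ⟶ pullback A.hom At.hom,
      i = (CartesianMonoidalCategory.lift (1 : At ⟶ A) (𝟙 At)).left := ⟨_, rfl⟩
  have hi₁ : i ≫ pullback.fst A.hom At.hom = At.hom ≫ eA := by
    subst hi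
    subst heA
    refine (congrArg (fun t => Over.Hom.left t) (lift_fst (1 : At ⟶ A) (𝟙 At))).trans ?_
    rw [show (1 : At ⟶ A) = toUnit At ≫ η[A] from rfl, Over.comp_left]
    exact congrArg (· ≫ η[A].left) (Over.w (toUnit At) |> fun h => (Category.comp_id _).symm.trans h)
  have hi₂ : i ≫ pullback.snd A.hom At.hom = 𝟙 At.left := by
    subst hi
    exact congrArg CommaMorphism.left (lift_snd (1 : At ⟶ A) (𝟙 At))
  have hsq : IsPullback At.hom i eA (pullback.fst A.hom At.hom) := by
    refine (IsPullback.of_right ?_ hi₁ (IsPullback.of_hasPullback A.hom At.hom).flip).flip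
    rw [hi₂, show eA ≫ A.hom = 𝟙 (Spec (CommRingCat.of k)) from heA ▸ Over.w η[A]]
    exact (IsPullback.of_horiz_isIso ⟨(Category.id_comp _).trans (Category.comp_id _).symm⟩)
  haveI : IsClosedImmersion eA := heA ▸ isClosedImmersion_unit A
  haveI := DCat.hasRpush eA
  haveI := DCat.hasLpull At.hom
  haveI := DCat.hasRpush i
  haveI := DCat.hasLpull i
  haveI := DCat.hasRpush (𝟙 At.left)
  haveI : Flat At.hom := CubeLib.flat_of_field _
  haveI : Flat (pullback.fst A.hom At.hom) := inferInstance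
  haveI := QCohLoc.isQCoh_structureModule (Spec (CommRingCat.of k))
  haveI := QCohLoc.isQCoh_structureModule At.left
  obtain ⟨b⟩ := DQCoh.nonempty_Rpush_inD eA (Coh.structureModule (Spec (CommRingCat.of k)))
  obtain ⟨c⟩ := nonempty_bc_nat hsq (Or.inr inferInstance) (DCoh.IsQCohD (X := Spec (CommRingCat.of k))).ι (fun K => K.2)
  obtain ⟨n⟩ := nonempty_LTensorMod_nat P
  obtain ⟨π⟩ := nonempty_projection_tens i hP
  obtain ⟨r⟩ := nonempty_Rpush_comp i (pullback.snd A.hom At.hom) _ hi₂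
  obtain ⟨l⟩ := nonempty_Lpull_inD At.hom (AmpleLib.isInvertible_structureModule (X := Spec (CommRingCat.of k)))
  obtain ⟨eP⟩ := (PicM.of_eq_one_iff (PicLoc.isInvertible_pullback i hP)).1 (by
    rw [← PicM.pull_of i hP]; subst hi; exact hrig)
  obtain ⟨t⟩ := nonempty_inD_tens ((Scheme.Modules.pullback i).obj P)
  obtain ⟨z⟩ := DQCoh.nonempty_Rpush_inD (𝟙 At.left) (Coh.structureModule At.left)
  let K₀ : (DCoh.IsQCohD (X := Spec (CommRingCat.of k))).FullSubcategory :=
    ⟨DCoh.inD _ (Coh.structureModule (Spec (CommRingCat.of k))), FlatBC14.isQCohD_inD _⟩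
  have f1 : (DCoh.Lpull (pullback.fst A.hom At.hom)).obj
      (DCoh.inD A.left ((Scheme.Modules.pushforward eA).obj (Coh.structureModule (Spec (CommRingCat.of k))))) ≅
      (DCoh.Rpush i).obj ((DCoh.Lpull At.hom).obj (DCoh.inD _ (Coh.structureModule (Spec (CommRingCat.of k))))) :=
    (DCoh.Lpull (pullback.fst A.hom At.hom)).mapIso b.symm ≪≫ c.app K₀
  have f2 : (DCoh.Lpull At.hom).obj (DCoh.inD _ (Coh.structureModule (Spec (CommRingCat.of k)))) ≅ ox At.left :=
    l ≪≫ (DerivedCategory.singleFunctor At.left.Modules 0).mapIso (PicLoc.pullbackStructureIso At.hom ≪≫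
      (DQCoh.topStructIso At.left).symm) ≪≫ inDIso _
  have f3 : (DCoh.LTensorMod P).obj ((DCoh.Lpull (pullback.fst A.hom At.hom)).obj
      (DCoh.inD A.left ((Scheme.Modules.pushforward eA).obj (Coh.structureModule (Spec (CommRingCat.of k)))))) ≅
      (DCoh.Rpush i).obj ((tens ((Scheme.Modules.pullback i).obj P)).obj (ox At.left)) :=
    (DCoh.LTensorMod P).mapIso (f1 ≪≫ (DCoh.Rpush i).mapIso f2) ≪≫ n.app _ ≪≫ π.app (ox At.left)
  have f4 := (DCoh.Rpush (pullback.snd A.hom At.hom)).mapIso f3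
  have f5 := f4 ≪≫ r.app _
  have f6 := (DCoh.Rpush (𝟙 At.left)).mapIso (t ≪≫ (DerivedCategory.singleFunctor At.left.Modules 0).mapIso eP)
  have f7 := f5 ≪≫ f6
  have f8 := f7 ≪≫ z ≪≫ (DerivedCategory.singleFunctor At.left.Modules 0).mapIso
    ((Scheme.Modules.pushforwardId At.left).app (Coh.structureModule At.left))
  exact ⟨f8⟩

end Groth.Agent.AVExt16
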