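import Groth.Agent.AVExt16.DualSeq
import Groth.Agent.DCat.RHomLeft
import Groth.Agent.SplitP.Basic
import Groth.Agent.Dual22Lib.TenLocal
import Groth.Agent.AbCubeLib.FiniteProduct

/-!
# Fibres of nonzero maps onto a skyscraper
-/

set_option autoImplicit false
set_option backward.isDefEq.respectTransparency false
set_option backward.defeqAttrib.useBackward true
set_option linter.style.haveILetI false

universe u v w

open CategoryTheory CategoryTheory.Limits CategoryTheory.Pretriangulated AlgebraicGeometry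
open Groth.Agent Groth.Agent.DCat

attribute [local instance] HasDerivedCategory.standard
attribute [-instance] Int.instConditionallyCompleteLinearOrder

namespace Groth.Agent.AVExt16

/-- If every nonzero map `F → S` is the quotient map up to an automorphism, all fibres of nonzero maps are `N`. -/
theorem nonempty_fibre {C : Type u} [Category.{v} C] [Abelian C] [HasDerivedCategory.{w} C] {T : ShortComplex C}
    (hT : T.ShortExact) (hp : ∀ p : T.X₂ ⟶ T.X₃, p ≠ 0 → ∃ v : T.X₃ ≅ T.X₃, T.g ≫ v.hom = p) (s : ℤ)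
    {R : DerivedCategory C} (a : R ⟶ ((DerivedCategory.singleFunctor C 0).obj T.X₂)⟦s⟧)
    (b : ((DerivedCategory.singleFunctor C 0).obj T.X₂)⟦s⟧ ⟶ ((DerivedCategory.singleFunctor C 0).obj T.X₃)⟦s⟧)
    (c : ((DerivedCategory.singleFunctor C 0).obj T.X₃)⟦s⟧ ⟶ R⟦(1 : ℤ)⟧)
    (hR : Triangle.mk a b c ∈ distTriang (DerivedCategory C)) (hb : b ≠ 0) :
    Nonempty (R ≅ ((DerivedCategory.singleFunctor C 0).obj T.X₁)⟦s⟧) := by
  let S₀ := DerivedCategory.singleFunctor C 0
  obtain ⟨b₁, hb₁⟩ := (shiftFunctor (DerivedCategory C) s).map_surjective b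
  obtain ⟨p, hp₁⟩ := S₀.map_surjective b₁
  have hp0 : p ≠ 0 := fun h => hb (by rw [← hb₁, ← hp₁, h, Functor.map_zero, Functor.map_zero])
  obtain ⟨v, hv⟩ := hp (s.negOnePow • p) fun h => hp0 (by
    have := congrArg (fun q => s.negOnePow • q) h
    simpa [smul_smul] using this)
  have hS := Triangle.shift_distinguished _ hT.singleTriangle_distinguished s
  let e₂ : (Triangle.mk a b c).rotate.obj₂ ≅ (((shiftFunctor (Triangle (DerivedCategory C)) s).obj hT.singleTriangle).rotate).obj₂ :=
    (shiftFunctor (DerivedCategory C) s).mapIso (S₀.mapIso v.symm)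
  let E := isoTriangleOfIso₁₂ _ _ (rot_of_distTriang _ hR) (rot_of_distTriang _ hS) (Iso.refl _) e₂ (by
    show b ≫ (S₀.map v.inv)⟦s⟧' = 𝟙 _ ≫ (s.negOnePow • (S₀.map T.g)⟦s⟧')
    rw [Category.id_comp, ← hb₁, ← hp₁, ← Functor.map_comp, ← Functor.map_comp]
    have hg : s.negOnePow • T.g = p ≫ v.inv := by
      rw [show T.g = (s.negOnePow • p) ≫ v.inv from by rw [← hv, Category.assoc, Iso.hom_inv_id, Category.comp_id],
        Linear.units_smul_comp, smul_smul, Int.units_mul_self, one_smul]
    rw [← hg, Functor.map_units_smul, Functor.map_units_smul])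
  exact ⟨(shiftFunctor (DerivedCategory C) (1 : ℤ)).preimageIso (Triangle.π₃.mapIso E)⟩

variable {X Z : Scheme.{u}} (e : Z ⟶ X)

/-- Over a field, every nonzero map `O → e_* O` is the unit up to an automorphism. -/
theorem exists_auto_sky (hZ : IsField Γ(Z, ⊤)) (h1 : ClSub.unitToPush e ≠ 0)
    (p : Coh.structureModule X ⟶ (Scheme.Modules.pushforward e).obj (Coh.structureModule Z)) (hp : p ≠ 0) :
    ∃ v : (Scheme.Modules.pushforward e).obj (Coh.structureModule Z) ≅
      (Scheme.Modules.pushforward e).obj (Coh.structureModule Z), ClSub.unitToPush e ≫ v.hom = p := by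
  let α := Scheme.Modules.pullbackPushforwardAdjunction e
  let c := PicLoc.pullbackStructureIso e
  have key : ∀ q : Coh.structureModule X ⟶ (Scheme.Modules.pushforward e).obj (Coh.structureModule Z), q ≠ 0 →
      IsIso (c.inv ≫ (α.homEquiv _ _).symm q) := fun q hq => by
    refine SplitP.isIso_endo_of_isField hZ fun h => hq ?_
    have h' : (α.homEquiv _ _).symm q = 0 := by
      rw [← cancel_epi c.inv, h, comp_zero]
    have h0 : (α.homEquiv _ _).symm q = (α.homEquiv _ _).symm 0 := by
      rw [h', Adjunction.homEquiv_counit, Functor.map_zero, zero_comp]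
    exact (α.homEquiv _ _).symm.injective h0
  haveI := key _ h1
  haveI := key p hp
  let w := c.inv ≫ (α.homEquiv _ _).symm (ClSub.unitToPush e)
  let w' := c.inv ≫ (α.homEquiv _ _).symm p
  refine ⟨(Scheme.Modules.pushforward e).mapIso ((asIso w).symm ≪≫ asIso w'), ?_⟩
  apply (α.homEquiv _ _).symm.injective
  rw [Functor.mapIso_hom, Adjunction.homEquiv_naturality_right_symm, ← cancel_epi c.inv, ← Category.assoc]
  show w ≫ ((asIso w).symm ≪≫ asIso w').hom = w'
  simp

/-- The unit of an isomorphism is a monomorphism. -/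
theorem mono_unitToPush [IsIso e] : Mono (ClSub.unitToPush e) := by
  refine ⟨fun {W} a b h => ?_⟩
  refine Scheme.Modules.hom_ext _ _ fun U => ConcreteCategory.hom_ext _ _ fun x => ?_
  have hU := congrArg (fun φ : W ⟶ (Scheme.Modules.pushforward e).obj (Coh.structureModule Z) => φ.app U x) h
  exact (ConcreteCategory.bijective_of_isIso (e.app U)).1 hU

/-- `RHom` out of a zero module vanishes. -/
theorem isZero_rhom_of_isZero {N : X.Modules} (hN : IsZero N)
    [DCoh.HasLTensorCx ((HomologicalComplex.single X.Modules (ComplexShape.up ℤ) 0).obj N)]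
    [DCoh.HasRSheafHom ((HomologicalComplex.single X.Modules (ComplexShape.up ℤ) 0).obj N)] (M : DCoh.D X) :
    IsZero ((DCoh.RSheafHom ((HomologicalComplex.single X.Modules (ComplexShape.up ℤ) 0).obj N)).obj M) := by
  let E := (HomologicalComplex.single X.Modules (ComplexShape.up ℤ) 0).obj N
  let R := (DCoh.RSheafHom E).obj M
  obtain ⟨P, hP, ⟨eP⟩⟩ := PullPerf.exists_kflat_rep R
  obtain ⟨P', hP', ⟨eP'⟩⟩ := PullPerf.exists_kflat_rep (DCoh.inD X N)
  haveI := LTensorSheaf.hasLTensorCx P
  haveI := LTensorSheaf.hasLTensorCx P'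
  obtain ⟨t⟩ := TensorCongr.nonempty_congr (E := P') (E' := E)
    (eP' ≪≫ (DerivedCategory.singleFunctorIsoCompQ _ 0).app _)
  have hz : IsZero (DerivedCategory.Q.obj P') := ((DerivedCategory.singleFunctor X.Modules 0).map_isZero hN).of_iso eP'
  have h1 : IsZero ((DCoh.LTensorCx P).obj (DerivedCategory.Q.obj P')) :=
    (Dual22Lib.TenLocal.triExact_LTensor P).map_isZero hz
  have h2 : IsZero ((DCoh.LTensorCx E).obj R) := h1.of_iso
    ((DCoh.LTensorCx E).mapIso eP.symm ≪≫ (t.app _).symm ≪≫ LTensorSheaf.ltensorCxIso' hP' P ≪≫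
      DerivedCategory.Q.mapIso (TotSymm.symmIso (shT X) TotSymm.braid (fun f b => TotSymm.braid_nat₁ f b)
        (fun a _ _ g => TotSymm.braid_nat₂ a g) P P') ≪≫ (LTensorSheaf.ltensorCxIso' hP P').symm)
  rw [IsZero.iff_id_eq_zero]
  exact ((DCoh.RSheafHomAdj E).homEquiv R M).symm.injective (h2.eq_of_src _ _)

/-- The unit section of a reduced one-point group is an isomorphism. -/
theorem isIso_of_subsingleton {e : Z ⟶ X} [IsClosedImmersion e] [Subsingleton X] [Nonempty Z] [IsReduced X] : IsIso e := by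
  haveI : Surjective e := ⟨fun x => ⟨Classical.arbitrary Z, Subsingleton.elim _ _⟩⟩
  exact isIso_of_isClosedImmersion_of_surjective e

end Groth.Agent.AVExt16
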